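import Cfsg.Agent.H43.InvSub.Defs

/-!
Elementary properties of the set of inverted elements of odd order.
-/

set_option autoImplicit false

namespace H43.InvSub

universe u

variable {G : Type u} [Group G]

theorem mul_self_of_orderOf_two {t : G} (ht : orderOf t = 2) : t * t = 1 := by
  rw [← pow_two, ← ht]
  exact pow_orderOf_eq_one t

theorem inv_eq_self_of_orderOf_two {t : G} (ht : orderOf t = 2) : t⁻¹ = t :=
  inv_eq_of_mul_eq_one_right (mul_self_of_orderOf_two ht)

theorem mem_invSet_map {H : Type*} [Group H] (f : G →* H) {t x : G} (hx : x ∈ invSet t) :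
    f x ∈ invSet (f t) := by
  refine ⟨Odd.of_dvd_nat hx.1 (orderOf_map_dvd f x), ?_⟩
  rw [← map_inv, ← map_mul, ← map_mul, hx.2, map_inv]

theorem mem_invSet_equiv {H : Type*} [Group H] (f : G ≃* H) {t x : G} :
    f x ∈ invSet (f t) ↔ x ∈ invSet t :=
  ⟨fun h => by simpa using mem_invSet_map f.symm.toMonoidHom h,
    fun h => mem_invSet_map f.toMonoidHom h⟩

theorem mem_invSet_conj {t x : G} (g : G) (hx : x ∈ invSet t) :
    g * x * g⁻¹ ∈ invSet (g * t * g⁻¹) :=
  mem_invSet_map (MulAut.conj g).toMonoidHom hx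

theorem invSet_conj (t g : G) :
    invSet (g * t * g⁻¹) = (fun x => g * x * g⁻¹) '' invSet t := by
  ext y
  refine ⟨fun hy => ⟨g⁻¹ * y * g, ?_, by group⟩, ?_⟩
  · have h := mem_invSet_conj g⁻¹ hy
    have e : g⁻¹ * (g * t * g⁻¹) * g⁻¹⁻¹ = t := by group
    have e' : g⁻¹ * y * g⁻¹⁻¹ = g⁻¹ * y * g := by rw [inv_inv]
    rwa [e, e'] at h
  · rintro ⟨x, hx, rfl⟩
    exact mem_invSet_conj g hx

theorem inv_mem_invSet {t x : G} (hx : x ∈ invSet t) : x⁻¹ ∈ invSet t := by
  refine ⟨by rw [orderOf_inv]; exact hx.1, ?_⟩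
  have h := congrArg (·⁻¹) hx.2
  simpa [mul_assoc] using h

theorem pow_mem_invSet {t x : G} (hx : x ∈ invSet t) (k : ℕ) : x ^ k ∈ invSet t := by
  refine ⟨Odd.of_dvd_nat hx.1 (orderOf_pow_dvd k), ?_⟩
  rw [← conj_pow, hx.2, inv_pow]

theorem mem_invSet_subtype {H : Subgroup G} {t x : H} :
    x ∈ invSet t ↔ (x : G) ∈ invSet (t : G) := by
  refine ⟨fun h => mem_invSet_map H.subtype h, fun h => ⟨?_, ?_⟩⟩
  · rw [← Subgroup.orderOf_coe]; exact h.1
  · exact Subtype.ext (by simpa using h.2)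

theorem mem_invSet_of_eq {t t' x : G} (hx : x ∈ invSet t) (h : t' * x * t'⁻¹ = t * x * t⁻¹) :
    x ∈ invSet t' := ⟨hx.1, h.trans hx.2⟩

theorem exists_sqrt {t x : G} (hx : x ∈ invSet t) :
    ∃ y ∈ invSet t, y ∈ Subgroup.zpowers x ∧ x = y * y := by
  obtain ⟨k, hk⟩ := hx.1
  refine ⟨x ^ (k + 1), pow_mem_invSet hx _, pow_mem (Subgroup.mem_zpowers x) _, ?_⟩
  rw [← pow_add, show k + 1 + (k + 1) = orderOf x + 1 by omega, pow_succ, pow_orderOf_eq_one,
    one_mul]

/-- `y t y⁻¹ t = y ^ 2` for an element inverted by an involution `t`. -/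
theorem mul_self_eq_conj_mul {t y : G} (ht : t * t = 1) (hy : t * y * t⁻¹ = y⁻¹) :
    y * y = y * t * y⁻¹ * t := by
  rw [← hy]
  have : t⁻¹ = t := inv_eq_of_mul_eq_one_right ht
  simp only [this]
  calc y * y = y * (t * t) * y * (t * t) := by rw [ht]; group
    _ = y * t * (t * y * t) * t := by group

theorem mem_tSub_self (t : G) : t ∈ tSub t := Subgroup.subset_closure (Set.mem_insert _ _)

theorem invSet_subset_tSub (t : G) : invSet t ⊆ tSub t :=
  fun _ hx => Subgroup.subset_closure (Set.mem_insert_of_mem _ hx)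

theorem tSub_le_iff {t : G} {H : Subgroup G} : tSub t ≤ H ↔ t ∈ H ∧ invSet t ⊆ H := by
  rw [tSub, Subgroup.closure_le, Set.insert_subset_iff]
  rfl

theorem tSub_le_normalClosure {t : G} (ht : t * t = 1) :
    tSub t ≤ Subgroup.normalClosure {t} := by
  have htN : t ∈ Subgroup.normalClosure ({t} : Set G) := Subgroup.subset_normalClosure rfl
  refine tSub_le_iff.2 ⟨htN, fun x hx => ?_⟩
  obtain ⟨y, hy, -, rfl⟩ := exists_sqrt hx
  rw [mul_self_eq_conj_mul ht hy.2]
  exact mul_mem (Subgroup.normalClosure_normal.conj_mem t htN y) htN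

theorem map_tSub {H : Type*} [Group H] (f : G →* H) (t : G) :
    (tSub t).map f ≤ tSub (f t) := by
  rw [Subgroup.map_le_iff_le_comap]
  exact tSub_le_iff.2 ⟨mem_tSub_self _, fun x hx => invSet_subset_tSub _ (mem_invSet_map f hx)⟩

theorem map_tSub_equiv {H : Type*} [Group H] (f : G ≃* H) (t : G) :
    (tSub t).map f.toMonoidHom = tSub (f t) := by
  refine le_antisymm (map_tSub f.toMonoidHom t) ?_
  refine tSub_le_iff.2 ⟨⟨t, mem_tSub_self t, rfl⟩, fun y hy => ?_⟩
  refine ⟨f.symm y, invSet_subset_tSub t ?_, by simp⟩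
  rw [← mem_invSet_equiv f]
  simpa using hy

theorem map_conj_tSub (t g : G) :
    (tSub t).map (MulAut.conj g).toMonoidHom = tSub (g * t * g⁻¹) :=
  map_tSub_equiv (MulAut.conj g) t

theorem closure_map_subtype {H : Subgroup G} (s : Set H) :
    (Subgroup.closure s).map H.subtype = Subgroup.closure (Subtype.val '' s) :=
  MonoidHom.map_closure _ _

theorem map_subtype_tSub {H : Subgroup G} (t : H) :
    (tSub t).map H.subtype = Subgroup.closure (insert (t : G) (invSet (t : G) ∩ H)) := by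
  rw [tSub, closure_map_subtype, Set.image_insert_eq]
  congr 2
  ext y
  constructor
  · rintro ⟨x, hx, rfl⟩
    exact ⟨mem_invSet_subtype.1 hx, x.2⟩
  · rintro ⟨hy, hyH⟩
    exact ⟨⟨y, hyH⟩, mem_invSet_subtype.2 hy, rfl⟩

/-- In a group where the theorem holds, `⟨t, inverted elements⟩` is subnormal. -/
theorem closure_insert_subnormal {H : Subgroup G} (hH : SubT H) {t : G} (ht : orderOf t = 2)
    (htH : t ∈ H) :
    ((Subgroup.closure (insert t (invSet t ∩ H))).subgroupOf H).IsSubnormal := by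
  have h := hH ⟨t, htH⟩ (by rw [← Subgroup.orderOf_coe]; exact ht)
  have e := map_subtype_tSub (H := H) ⟨t, htH⟩
  simp only at e
  rw [← e, Subgroup.subgroupOf, Subgroup.comap_map_eq_self_of_injective H.subtype_injective]
  exact h

theorem tSub_subnormal_in {H : Subgroup G} (hH : SubT H) {t : G} (ht : orderOf t = 2)
    (hle : tSub t ≤ H) : ((tSub t).subgroupOf H).IsSubnormal := by
  obtain ⟨htH, hsub⟩ := tSub_le_iff.1 hle
  have h := closure_insert_subnormal hH ht htH
  rwa [Set.inter_eq_left.2 hsub] at h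

theorem closure_inter_normalised {H : Subgroup G} {t : G} (htH : t ∈ H) :
    Subgroup.closure (insert t (invSet t ∩ H)) ≤
      Subgroup.normalizer (Subgroup.closure (invSet t ∩ H) : Set G) := by
  rw [Subgroup.closure_le, Set.insert_subset_iff]
  refine ⟨?_, fun x hx => Subgroup.le_normalizer (Subgroup.subset_closure hx)⟩
  apply Cfsg.Comp.mem_normalizer_of_map_conj_eq
  rw [MonoidHom.map_closure]
  congr 1
  ext y
  constructor
  · rintro ⟨x, ⟨hx, hxH⟩, rfl⟩
    have : t * x * t⁻¹ = x⁻¹ := hx.2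
    simp only [MulEquiv.toMonoidHom_eq_coe, MonoidHom.coe_coe, MulAut.conj_apply, this]
    exact ⟨inv_mem_invSet hx, inv_mem hxH⟩
  · rintro ⟨hy, hyH⟩
    refine ⟨y⁻¹, ⟨inv_mem_invSet hy, inv_mem hyH⟩, ?_⟩
    simpa using (inv_mem_invSet hy).2

/-- In a group where the theorem holds, the inverted elements generate a subnormal subgroup. -/
theorem closure_inter_subnormal {H : Subgroup G} (hH : SubT H) {t : G} (ht : orderOf t = 2)
    (htH : t ∈ H) : ((Subgroup.closure (invSet t ∩ H)).subgroupOf H).IsSubnormal := by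
  set T := Subgroup.closure (insert t (invSet t ∩ (H : Set G))) with hT
  set X := Subgroup.closure (invSet t ∩ (H : Set G)) with hX
  have hTH : T ≤ H := by
    rw [hT, Subgroup.closure_le, Set.insert_subset_iff]
    exact ⟨htH, Set.inter_subset_right⟩
  have hXT : X ≤ T := Subgroup.closure_mono (Set.subset_insert _ _)
  have hn : (X.subgroupOf T).Normal :=
    Subgroup.normal_subgroupOf_of_le_normalizer (closure_inter_normalised htH)
  refine Subgroup.IsSubnormal.trans (K := T.subgroupOf H) (fun x hx => hXT hx) ?_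
    (closure_insert_subnormal hH ht htH)
  let e : T.subgroupOf H ≃* T := Subgroup.subgroupOfEquivOfLe hTH
  have := hn.isSubnormal.comap e.toMonoidHom
  convert this using 1
  ext x
  rfl

end H43.InvSub
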