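import Mathlib
import Cfsg.Agent.CompLayer
import Cfsg.Prelude.Def_Amalgam

/-!
The subgroup generated by an involution `t` and the elements of odd order it inverts is subnormal:
definitions and the interface of a minimal counterexample.
-/

set_option autoImplicit false

namespace H43.InvSub

universe u

variable {G : Type u} [Group G]

/-- The elements of odd order inverted by `t`. -/
def invSet (t : G) : Set G := {x | Odd (orderOf x) ∧ t * x * t⁻¹ = x⁻¹}

/-- The subgroup generated by `t` and the elements of odd order it inverts. -/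
def tSub (t : G) : Subgroup G := Subgroup.closure (insert t (invSet t))

/-- The statement to be proved, for one group. -/
def SubT (G : Type u) [Group G] : Prop :=
  ∀ t : G, orderOf t = 2 → (tSub t).IsSubnormal

/-- The elements of `H` which centralise `t` modulo the 2-core of `H`. -/
def centModCore (H : Subgroup G) (t : G) : Set G :=
  {g | g ∈ H ∧ g * t * g⁻¹ * t⁻¹ ∈ Cfsg.pCoreOf 2 H}

/-- `⟨elements of H inverted by t, elements of H centralising t modulo O₂(H)⟩`. -/
def coverSub (H : Subgroup G) (t : G) : Subgroup G :=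
  Subgroup.closure ((invSet t ∩ (H : Set G)) ∪ centModCore H t)

/-- What a minimal counterexample provides: a conjugacy class `K` of involutions, and for each
`d ∈ K` the unique maximal subgroup `M d` containing `tSub d`. -/
structure Sys (G : Type u) [Group G] where
  /-- The class of involutions. -/
  K : Set G
  /-- The maximal subgroup attached to a member of the class. -/
  M : G → Subgroup G
  nonempty : K.Nonempty
  invol : ∀ d ∈ K, orderOf d = 2
  conj_mem : ∀ d ∈ K, ∀ g : G, g * d * g⁻¹ ∈ K
  trans : ∀ d ∈ K, ∀ e ∈ K, ∃ g : G, g * d * g⁻¹ = e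
  coatom : ∀ d ∈ K, IsCoatom (M d)
  mem : ∀ d ∈ K, d ∈ M d
  inv_le : ∀ d ∈ K, invSet d ⊆ M d
  cent_le : ∀ d ∈ K, Subgroup.centralizer ({d} : Set G) ≤ M d
  conj_M : ∀ d ∈ K, ∀ g : G, M (g * d * g⁻¹) = (M d).map (MulAut.conj g).toMonoidHom
  self_norm : ∀ d ∈ K, Subgroup.normalizer (M d : Set G) = M d
  core : ∀ d ∈ K, ∀ R : Subgroup G, R.Normal → R ≤ M d → R = ⊥
  closed : ∀ d ∈ K, ∀ H : Subgroup G, H ≠ ⊤ → tSub d ≤ H → H ≤ M d
  inv_ne : ∀ d ∈ K, ∃ x ∈ invSet d, x ≠ 1
  smaller : ∀ (H : Type u) [Group H] [Finite H], Nat.card H < Nat.card G → SubT H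

/-- A member of the class inverts no nontrivial element of odd order in the cell of another. -/
def Sys.NoFail (S : Sys G) : Prop :=
  ∀ d ∈ S.K, ∀ f ∈ S.K, d ∈ S.M f → S.M d ≠ S.M f → ∀ x ∈ invSet d, x ∈ S.M f → x = 1

/-- The maximal subgroups `M d` have nontrivial 2-core. -/
def Sys.CoreNe (S : Sys G) : Prop :=
  ∀ d ∈ S.K, Cfsg.pCoreOf 2 (S.M d) ≠ ⊥

end H43.InvSub
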