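import Cfsg.Agent.H43.InvSub.NoFail
import Cfsg.Agent.H53.InvSub.Local
import Cfsg.Agent.H63.InvSub.CoreNe
import Cfsg.Agent.H70.InvSub.Tree

/-!
For an involution `t` of a finite group, `t` and the elements of odd order it inverts generate a
subnormal subgroup.
-/

set_option autoImplicit false

namespace H43.InvSub

universe u

theorem main : MainStmt.{u} := by
  suffices h : ∀ (n : ℕ) (G : Type u) [Group G] [Finite G], Nat.card G = n → SubT G from
    fun G _ _ => h _ G rfl
  intro n
  induction n using Nat.strong_induction_on with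
  | _ n ih =>
    intro G _ _ hn
    by_contra hG
    obtain ⟨S⟩ := exists_sys H53.InvSub.lift
      (fun H _ _ hH => ih (Nat.card H) (hn ▸ hH) H rfl) hG
    have hQ : S.CoreNe := H63.InvSub.coreNe H53.InvSub.lift H53.InvSub.cover S
    exact H70.InvSub.tree S hQ (S.noFail H53.InvSub.lift H53.InvSub.twoLeCore hQ)

end H43.InvSub
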