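import Cfsg.Agent.H43.InvSub.Setup
import Cfsg.Agent.H7.PActFStar
import Cfsg.Agent.H77.JData
import Cfsg.Agent.H75.Basic
import Cfsg.Agent.H74.SylIn

/-!
No member of the class inverts a nontrivial element of odd order in the maximal subgroup of
another: a maximal-normalizer argument on the 2-cores.
-/

set_option autoImplicit false

namespace H43.InvSub

universe u

variable {G : Type u} [Group G]

/-- The subgroup generated by the elements of `B` inverted by `d`. -/
def cell (d : G) (B : Subgroup G) : Subgroup G := Subgroup.closure (invSet d ∩ (B : Set G))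

theorem cell_le (d : G) (B : Subgroup G) : cell d B ≤ B :=
  (Subgroup.closure_le B).2 Set.inter_subset_right

theorem cell_le_closure (d : G) (B : Subgroup G) : cell d B ≤ Subgroup.closure (invSet d) :=
  Subgroup.closure_mono Set.inter_subset_left

theorem cell_odd_gen (d : G) (B : Subgroup G) :
    Subgroup.closure {g : G | g ∈ cell d B ∧ Odd (orderOf g)} = cell d B := by
  refine le_antisymm ((Subgroup.closure_le _).2 fun g hg => hg.1) ?_
  conv_lhs => rw [cell]
  exact Subgroup.closure_mono fun g hg => ⟨Subgroup.subset_closure hg, hg.1.1⟩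

theorem mem_normalizer_cell {d : G} {B : Subgroup G} (hd : d ∈ B) :
    d ∈ Subgroup.normalizer (cell d B : Set G) :=
  closure_inter_normalised hd (Subgroup.subset_closure (Set.mem_insert _ _))

variable [Finite G]

theorem exists_normalizing {p : ℕ} [Fact p.Prime] {P A : Subgroup G} (hP : IsPGroup p P)
    (hA : ¬ P ≤ A) :
    ∃ g ∈ P, g ∉ A ∧ ∀ x ∈ P ⊓ A, g * x * g⁻¹ ∈ P ⊓ A := by
  haveI : Group.IsNilpotent P := hP.isNilpotent
  have hlt := Group.normalizerCondition_of_isNilpotent (A.subgroupOf P)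
    (lt_top_iff_ne_top.2 fun h => hA (Subgroup.subgroupOf_eq_top.1 h))
  obtain ⟨g, hg, hgA⟩ := SetLike.exists_of_lt hlt
  refine ⟨g, g.2, fun h => hgA (Subgroup.mem_subgroupOf.2 h), fun x hx => ?_⟩
  have := (Subgroup.mem_normalizer_iff.1 hg ⟨x, hx.1⟩).1 (Subgroup.mem_subgroupOf.2 hx.2)
  exact Subgroup.mem_inf.2 ⟨P.mul_mem (P.mul_mem g.2 hx.1) (P.inv_mem g.2), Subgroup.mem_subgroupOf.1 this⟩

/-- If only members of `M` move `d` into `M`, a 2-group through `d` lies in `M`. -/
theorem grow {P M : Subgroup G} (hP : IsPGroup 2 P) {d : G} (hdP : d ∈ P) (hdM : d ∈ M)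
    (h : ∀ g ∈ P, g * d * g⁻¹ ∈ M → g ∈ M) : P ≤ M := by
  by_contra hA
  obtain ⟨g, hgP, hgM, hg⟩ := exists_normalizing hP hA
  exact hgM (h g hgP (hg d ⟨hdP, hdM⟩).2)

theorem isPGroup_zpowers_of_mul_self {d : G} (hd : d * d = 1) :
    IsPGroup 2 (Subgroup.zpowers d) := by
  by_cases h : d = 1
  · subst h
    rw [Subgroup.zpowers_one_eq_bot]
    exact IsPGroup.of_bot
  · refine IsPGroup.of_card (n := 1) ?_
    rw [Nat.card_zpowers, pow_one]
    exact orderOf_eq_prime (by rw [pow_two]; exact hd) h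

theorem isPGroup_sup_zpowers {Q : Subgroup G} (hQ : IsPGroup 2 Q) {d : G} (hd : d * d = 1)
    (hn : d ∈ Subgroup.normalizer (Q : Set G)) : IsPGroup 2 ↥(Q ⊔ Subgroup.zpowers d) :=
  hQ.to_sup_of_normal_left' (isPGroup_zpowers_of_mul_self hd) (Subgroup.zpowers_le.2 hn)

namespace Sys

variable (S : Sys G)
include S

omit [Finite G] in
theorem ne_top {d : G} (hd : d ∈ S.K) : S.M d ≠ ⊤ := (S.coatom d hd).1

theorem subT_of_ne_top {B : Subgroup G} (hB : B ≠ ⊤) : SubT ↥B :=
  S.smaller ↥B (card_lt_of_ne_top hB)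

theorem subT_of_card_le {B : Subgroup G} (hB : B ≠ ⊤) (A : Type u) [Group A] [Finite A]
    (h : Nat.card A ≤ Nat.card B) : SubT A :=
  S.smaller A (h.trans_lt (card_lt_of_ne_top hB))

omit [Finite G] in
theorem cell_self {d : G} (hd : d ∈ S.K) : cell d (S.M d) = Subgroup.closure (invSet d) := by
  rw [cell, Set.inter_eq_left.2 (S.inv_le d hd)]

theorem pCoreOf_le_normalizer_cell {d : G} (hd : d ∈ S.K) {B : Subgroup G} (hB : B ≠ ⊤)
    (hdB : d ∈ B) : Cfsg.pCoreOf 2 B ≤ Subgroup.normalizer (cell d B : Set G) :=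
  H77.pCoreOf_le_normalizer_of_subnormal (cell_le d B) (cell_odd_gen d B)
    (closure_inter_subnormal (S.subT_of_ne_top hB) (S.invol d hd) hdB)

/-- An element of odd order in `B`, inverted by `d` modulo the core, lies in the cell of `d`. -/
theorem mem_cell_of_invSet (hL : LiftStmt.{u}) {d e x : G} (hd : d ∈ S.K) {B : Subgroup G}
    (hB : B ≠ ⊤) (hdB : d ∈ B) (heB : e ∈ B) (hed : e * d⁻¹ ∈ Cfsg.pCoreOf 2 B)
    (hx : x ∈ invSet e) (hxB : x ∈ B) : x ∈ cell d B := by
  set Q := Cfsg.pCoreOf 2 B with hQ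
  haveI hN : (Q.subgroupOf B).Normal :=
    Subgroup.normal_subgroupOf_of_le_normalizer (H75.le_normalizer_pCoreOf B)
  set π := QuotientGroup.mk' (Q.subgroupOf B)
  have hπ : π ⟨e, heB⟩ = π ⟨d, hdB⟩ := by
    rw [QuotientGroup.mk'_apply, QuotientGroup.mk'_apply, QuotientGroup.eq_iff_div_mem,
      Subgroup.mem_subgroupOf, div_eq_mul_inv]
    exact hed
  have h1 : π ⟨x, hxB⟩ ∈ invSet (π ⟨d, hdB⟩) := by
    rw [← hπ]
    exact mem_invSet_map π (mem_invSet_subtype.2 hx)
  obtain ⟨y, hy, hyx⟩ := hL π (QuotientGroup.mk'_surjective _) ⟨d, hdB⟩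
    (Subtype.ext (mul_self_of_orderOf_two (S.invol d hd))) _ h1
  have h2 : (y : G)⁻¹ * x ∈ Q := by
    rw [QuotientGroup.mk'_apply, QuotientGroup.mk'_apply, QuotientGroup.eq,
      Subgroup.mem_subgroupOf] at hyx
    exact hyx
  have hxS : x ∈ cell d B ⊔ Q := by
    have := mul_mem (Subgroup.mem_sup_left (T := Q)
      (Subgroup.subset_closure ⟨mem_invSet_subtype.1 hy, y.2⟩ : (y : G) ∈ cell d B))
      (Subgroup.mem_sup_right (S := cell d B) h2)
    rwa [mul_inv_cancel_left] at this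
  haveI : Fact (2 : ℕ).Prime := ⟨Nat.prime_two⟩
  exact H7.mem_of_mem_sup_pgroup (H75.isPGroup_pCoreOf B) (S.pCoreOf_le_normalizer_cell hd hB hdB)
    hxS hx.1.not_two_dvd_nat

theorem coverSub_le_normalizer_cell (hL : LiftStmt.{u}) {d : G} (hd : d ∈ S.K) {B : Subgroup G}
    (hB : B ≠ ⊤) (hdB : d ∈ B) : coverSub B d ≤ Subgroup.normalizer (cell d B : Set G) := by
  rw [coverSub, Subgroup.closure_le]
  rintro g (hg | ⟨hgB, hgQ⟩)
  · exact Subgroup.le_normalizer (Subgroup.subset_closure hg)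
  · refine Cfsg.Comp.mem_normalizer_of_map_conj_eq ?_
    have hle : (cell d B).map (MulAut.conj g).toMonoidHom ≤ cell d B := by
      rw [cell, MonoidHom.map_closure, Subgroup.closure_le]
      rintro y ⟨x, ⟨hx, hxB⟩, rfl⟩
      exact S.mem_cell_of_invSet hL hd hB hdB (mul_mem (mul_mem hgB hdB) (inv_mem hgB)) hgQ
        (mem_invSet_conj g hx) (mul_mem (mul_mem hgB hxB) (inv_mem hgB))
    refine SetLike.coe_injective (Set.eq_of_subset_of_ncard_le hle ?_ (Set.toFinite _))
    rw [← Nat.card_coe_set_eq, ← Nat.card_coe_set_eq]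
    exact (Subgroup.card_map_of_injective (MulAut.conj g).injective).ge

omit [Finite G] in
theorem normalizer_pCoreOf_eq (hQ : S.CoreNe) {f : G} (hf : f ∈ S.K) :
    Subgroup.normalizer (Cfsg.pCoreOf 2 (S.M f) : Set G) = S.M f := by
  rcases eq_or_lt_of_le (H75.le_normalizer_pCoreOf (p := 2) (S.M f)) with h | h
  · exact h.symm
  · exact absurd (S.core f hf _ (Subgroup.normalizer_eq_top_iff.1 ((S.coatom f hf).2 _ h))
      (H75.pCoreOf_le _)) (hQ f hf)

theorem noFail (hL : LiftStmt.{u}) (hT : TwoLeCoreStmt.{u}) (hQ : S.CoreNe) : S.NoFail := by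
  haveI : Fact (2 : ℕ).Prime := ⟨Nat.prime_two⟩
  intro d₀ hd₀ f₀ hf₀ hmem hne x hx hxM
  by_contra hx1
  set C : Set (G × G) :=
    {p | p.1 ∈ S.K ∧ p.2 ∈ S.K ∧ p.1 ∈ S.M p.2 ∧ S.M p.1 ≠ S.M p.2 ∧ cell p.1 (S.M p.2) ≠ ⊥}
    with hC
  have hC0 : C.Nonempty := ⟨(d₀, f₀), hd₀, hf₀, hmem, hne, fun h => hx1 (by
    have h2 : x ∈ cell d₀ (S.M f₀) := Subgroup.subset_closure ⟨hx, hxM⟩
    rwa [h, Subgroup.mem_bot] at h2)⟩
  obtain ⟨⟨d, f⟩, ⟨hd, hf, hdf, hMne, hXne⟩, hmax⟩ :=
    (Set.toFinite C).exists_maximalFor (fun p => Nat.card (cell p.1 (S.M p.2))) C hC0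
  simp only at hd hf hdf hMne hXne hmax
  set M := S.M d with hMdef
  set B := S.M f with hBdef
  set X := cell d B with hXdef
  set N := Subgroup.normalizer (X : Set G) with hNdef
  have hd2 := mul_self_of_orderOf_two (S.invol d hd)
  have hB := S.ne_top hf
  have hM := S.ne_top hd
  have hdM : d ∈ M := S.mem d hd
  have hXM : X ≤ M := (Subgroup.closure_le M).2 fun y hy => S.inv_le d hd hy.1
  have hNtop : N ≠ ⊤ := fun h =>
    hXne (S.core f hf X (Subgroup.normalizer_eq_top_iff.1 h) (cell_le d B))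
  have hdN : d ∈ N := mem_normalizer_cell hdf
  have hQBN : Cfsg.pCoreOf 2 B ≤ N := S.pCoreOf_le_normalizer_cell hd hB hdf
  have hcovN : coverSub B d ≤ N := S.coverSub_le_normalizer_cell hL hd hB hdf
  by_cases hnone : ∀ r ∈ N, r * d * r⁻¹ ∈ M → r ∈ M
  · -- only members of `M` move `d` into `M`
    have hnB : d ∈ Subgroup.normalizer (Cfsg.pCoreOf 2 B : Set G) :=
      H75.le_normalizer_pCoreOf B hdf
    have hP : Cfsg.pCoreOf 2 B ⊔ Subgroup.zpowers d ≤ M := by
      refine grow (isPGroup_sup_zpowers (H75.isPGroup_pCoreOf B) hd2 hnB)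
        (Subgroup.mem_sup_right (Subgroup.mem_zpowers d)) hdM fun g hg hgd => hnone g ?_ hgd
      exact (sup_le hQBN (Subgroup.zpowers_le.2 hdN)) hg
    have hQBM : Cfsg.pCoreOf 2 B ≤ M := le_sup_left.trans hP
    have hcovM : coverSub B d ≤ M := by
      rw [coverSub, Subgroup.closure_le]
      rintro g (hg | hg)
      · exact S.inv_le d hd hg.1
      · refine hnone g (hcovN (Subgroup.subset_closure (Or.inr hg))) ?_
        have := mul_mem (hQBM hg.2) hdM
        rwa [inv_mul_cancel_right] at this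
    have hcovB : coverSub B d ≤ B := by
      rw [coverSub, Subgroup.closure_le]
      rintro g (hg | hg)
      · exact hg.2
      · exact hg.1
    have hR : Cfsg.pCoreOf 2 M ⊓ B ≤ Cfsg.pCoreOf 2 B := by
      refine hT B d (fun A _ _ h => S.subT_of_card_le hB A h) hdf hd2 _ inf_le_right
        ((H75.isPGroup_pCoreOf M).to_le inf_le_left) ?_
      exact Cfsg.Comp.inf_le_normalizer (hcovM.trans (H75.le_normalizer_pCoreOf M))
        (hcovB.trans Subgroup.le_normalizer)
    have hQMQB : Cfsg.pCoreOf 2 M ≤ Cfsg.pCoreOf 2 B := by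
      suffices h : Cfsg.pCoreOf 2 M ≤ B from (le_inf le_rfl h).trans hR
      by_contra hcon
      have hJ : IsPGroup 2 ↥(Cfsg.pCoreOf 2 M ⊔ Cfsg.pCoreOf 2 B) :=
        (H75.isPGroup_pCoreOf M).to_sup_of_normal_left' (H75.isPGroup_pCoreOf B)
          (hQBM.trans (H75.le_normalizer_pCoreOf M))
      obtain ⟨g, -, hgB, hg⟩ := exists_normalizing hJ (A := B)
        (fun h => hcon (le_sup_left.trans h))
      have hJB : (Cfsg.pCoreOf 2 M ⊔ Cfsg.pCoreOf 2 B) ⊓ B ≤ Cfsg.pCoreOf 2 B := by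
        rintro z ⟨hz, hzB⟩
        obtain ⟨m, hm, q, hq, rfl⟩ :=
          H1.exists_mul_of_mem_sup (hQBM.trans (H75.le_normalizer_pCoreOf M)) hz
        have hmB : m ∈ B := by
          have := B.mul_mem hzB (B.inv_mem (H75.pCoreOf_le B hq))
          rwa [mul_inv_cancel_right] at this
        exact mul_mem (hR ⟨hm, hmB⟩) hq
      apply hgB
      rw [hBdef, ← S.normalizer_pCoreOf_eq hQ hf]
      exact H77.mem_normalizer_of_forall fun k hk =>
        hJB (hg k ⟨Subgroup.mem_sup_right hk, H75.pCoreOf_le B hk⟩)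
    obtain ⟨g, hg⟩ := S.trans d hd f hf
    have hBM : B = M.map (MulAut.conj g).toMonoidHom := by
      rw [hBdef, ← hg, S.conj_M d hd]
    have hQeq : Cfsg.pCoreOf 2 M = Cfsg.pCoreOf 2 B := by
      refine SetLike.coe_injective (Set.eq_of_subset_of_ncard_le hQMQB ?_ (Set.toFinite _))
      rw [← Nat.card_coe_set_eq, ← Nat.card_coe_set_eq, hBM,
        H74.pCoreOf_map M (MulAut.conj g).toMonoidHom (MulAut.conj g).injective]
      exact (Subgroup.card_map_of_injective (MulAut.conj g).injective).le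
    apply hMne
    rw [hMdef, hBdef, ← S.normalizer_pCoreOf_eq hQ hd, ← S.normalizer_pCoreOf_eq hQ hf,
      ← hMdef, ← hBdef, hQeq]
  · push Not at hnone
    obtain ⟨r, hrN, hrd, hrM⟩ := hnone
    set f₁ := r * d * r⁻¹ with hf₁def
    have hf₁ : f₁ ∈ S.K := S.conj_mem d hd r
    have hne₁ : S.M f₁ ≠ M := fun h => hrM <| by
      rw [hMdef, ← S.self_norm d hd]
      exact Cfsg.Comp.mem_normalizer_of_map_conj_eq ((S.conj_M d hd r).symm.trans h)
    have hXle : X ≤ cell f₁ M := by
      conv_lhs => rw [← Cfsg.Comp.map_conj_eq_of_mem_normalizer hrN, hXdef, cell,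
        MonoidHom.map_closure]
      rw [Subgroup.closure_le]
      rintro y ⟨z, hz, rfl⟩
      refine Subgroup.subset_closure ⟨mem_invSet_conj r hz.1, hXM ?_⟩
      exact Cfsg.Comp.conj_mem_of_le_normalizer (H := N) le_rfl hrN (Subgroup.subset_closure hz)
    have hXeq : cell f₁ M = X := by
      refine (SetLike.coe_injective (Set.eq_of_subset_of_ncard_le hXle ?_ (Set.toFinite _))).symm
      rw [← Nat.card_coe_set_eq, ← Nat.card_coe_set_eq]
      have hmem₁ : (f₁, d) ∈ C :=
        ⟨hf₁, hd, hrd, hne₁, fun h => hXne (le_bot_iff.1 (le_of_le_of_eq hXle h))⟩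
      have h2 := hmax hmem₁
      simp only [← hMdef] at h2
      rcases le_total (Nat.card (cell f₁ M)) (Nat.card X) with h | h
      · exact h
      · exact h2 h
    have hQMN : Cfsg.pCoreOf 2 M ≤ N := by
      have := S.pCoreOf_le_normalizer_cell hf₁ hM hrd
      rwa [hXeq] at this
    have hcov₁ : coverSub M f₁ ≤ N := by
      have := S.coverSub_le_normalizer_cell hL hf₁ hM hrd
      rwa [hXeq] at this
    have hcov₁M : coverSub M f₁ ≤ M := by
      rw [coverSub, Subgroup.closure_le]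
      rintro g (hg | hg)
      · exact hg.2
      · exact hg.1
    set U := Cfsg.pCoreOf 2 N with hUdef
    have hUM_le : U ⊓ M ≤ Cfsg.pCoreOf 2 M := by
      refine hT M f₁ (fun A _ _ h => S.subT_of_card_le hM A h) hrd
        (mul_self_of_orderOf_two (S.invol f₁ hf₁)) _ inf_le_right
        ((H75.isPGroup_pCoreOf N).to_le inf_le_left) ?_
      exact Cfsg.Comp.inf_le_normalizer (hcov₁.trans (H75.le_normalizer_pCoreOf N))
        (hcov₁M.trans Subgroup.le_normalizer)
    have hagree : ∀ g ∈ N, g * d * g⁻¹ * d⁻¹ ∈ U → g * d * g⁻¹ * d⁻¹ ∈ M → g ∈ M := by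
      intro g _ hgU hgM
      set e := g * d * g⁻¹ with he
      have heK : e ∈ S.K := S.conj_mem d hd g
      have heM : e ∈ M := by
        have := mul_mem hgM hdM
        rwa [inv_mul_cancel_right] at this
      have hde : d * e⁻¹ ∈ Cfsg.pCoreOf 2 M := by
        have := inv_mem (hUM_le ⟨hgU, hgM⟩)
        rwa [mul_inv_rev, inv_inv] at this
      have hW : cell d M ≤ (cell d M).map (MulAut.conj g).toMonoidHom := by
        have h1 : cell d M ≤ cell e M := by
          conv_lhs => rw [cell]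
          rw [Subgroup.closure_le]
          rintro y ⟨hy, hyM⟩
          exact S.mem_cell_of_invSet hL heK hM heM hdM hde hy hyM
        refine h1.trans ((cell_le_closure e M).trans ?_)
        rw [hMdef, S.cell_self hd, MonoidHom.map_closure, Subgroup.closure_le, he, invSet_conj]
        rintro y ⟨z, hz, rfl⟩
        exact Subgroup.subset_closure ⟨z, hz, rfl⟩
      have hWeq : (cell d M).map (MulAut.conj g).toMonoidHom = cell d M := by
        refine (SetLike.coe_injective (Set.eq_of_subset_of_ncard_le hW ?_ (Set.toFinite _))).symm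
        rw [← Nat.card_coe_set_eq, ← Nat.card_coe_set_eq]
        exact (Subgroup.card_map_of_injective (MulAut.conj g).injective).le
      refine S.closed d hd _ (fun h => ?_) ?_ (Cfsg.Comp.mem_normalizer_of_map_conj_eq hWeq)
      · have := S.core d hd _ (Subgroup.normalizer_eq_top_iff.1 h) (cell_le d M)
        obtain ⟨z, hz, hz1⟩ := S.inv_ne d hd
        have h2 : z ∈ cell d M := Subgroup.subset_closure ⟨hz, S.inv_le d hd hz⟩
        rw [this, Subgroup.mem_bot] at h2
        exact hz1 h2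
      · refine tSub_le_iff.2 ⟨mem_normalizer_cell hdM, fun z hz => Subgroup.le_normalizer ?_⟩
        exact Subgroup.subset_closure ⟨hz, S.inv_le d hd hz⟩
    have hnU : d ∈ Subgroup.normalizer (U : Set G) := H75.le_normalizer_pCoreOf N hdN
    have hUle : U ⊔ Subgroup.zpowers d ≤ M := by
      refine grow (isPGroup_sup_zpowers (H75.isPGroup_pCoreOf N) hd2 hnU)
        (Subgroup.mem_sup_right (Subgroup.mem_zpowers d)) hdM fun g hg hgd => ?_
      refine hagree g ((sup_le (H75.pCoreOf_le N) (Subgroup.zpowers_le.2 hdN)) hg) ?_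
        (mul_mem hgd (inv_mem hdM))
      obtain ⟨v, hv, w, hw, rfl⟩ :=
        H1.exists_mul_of_mem_sup (Subgroup.zpowers_le.2 hnU) hg
      obtain ⟨k, rfl⟩ := Subgroup.mem_zpowers_iff.1 hw
      have e1 : v * d ^ k * d * (v * d ^ k)⁻¹ * d⁻¹ = v * (d * v⁻¹ * d⁻¹) := by group
      rw [e1]
      exact mul_mem hv (Cfsg.Comp.conj_mem_of_le_normalizer (H := Subgroup.zpowers d)
        (Subgroup.zpowers_le.2 hnU) (Subgroup.mem_zpowers d) (inv_mem hv))
    have hUM : U ≤ M := le_sup_left.trans hUle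
    have hcovN' : coverSub N d ≤ M := by
      rw [coverSub, Subgroup.closure_le]
      rintro g (hg | hg)
      · exact S.inv_le d hd hg.1
      · exact hagree g hg.1 hg.2 (hUM hg.2)
    have hQMU : Cfsg.pCoreOf 2 M ≤ U :=
      hT N d (fun A _ _ h => S.subT_of_card_le hNtop A h) hdN hd2 _ hQMN
        (H75.isPGroup_pCoreOf M) (hcovN'.trans (H75.le_normalizer_pCoreOf M))
    have hUeq : U = Cfsg.pCoreOf 2 M :=
      le_antisymm ((le_inf le_rfl hUM).trans hUM_le) hQMU
    apply hrM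
    rw [hMdef, ← S.normalizer_pCoreOf_eq hQ hd, ← hMdef, ← hUeq]
    exact H75.le_normalizer_pCoreOf N hrN

end Sys

end H43.InvSub
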