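import Cfsg.Agent.H43.InvSub.Defs

/-!
Statements of the modules of the proof that `tSub t` is subnormal.
-/

set_option autoImplicit false

namespace H43.InvSub

universe u

/-- Elements of odd order inverted by the image of `t` lift. -/
def LiftStmt : Prop :=
  ∀ {A B : Type u} [Group A] [Finite A] [Group B] (f : A →* B), Function.Surjective f →
    ∀ t : A, t * t = 1 → ∀ y ∈ invSet (f t), ∃ x ∈ invSet t, f x = y

/-- `F*(G)` is generated, modulo `O₂(G)`, by elements inverted and elements centralised by `t`. -/
def CoverStmt : Prop :=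
  ∀ {G : Type u} [Group G] [Finite G], SubT G → ∀ t : G, t * t = 1 →
    Cfsg.generalizedFittingSubgroup G ≤
      Cfsg.pCore 2 G ⊔ Subgroup.closure (invSet t ∪ (Subgroup.centralizer ({t} : Set G) : Set G))

/-- A 2-subgroup normalised by the cover of `H` lies in `O₂(H)`. -/
def TwoLeCoreStmt : Prop :=
  ∀ {G : Type u} [Group G] [Finite G] (H : Subgroup G) (d : G),
    (∀ (A : Type u) [Group A] [Finite A], Nat.card A ≤ Nat.card H → SubT A) →
    d ∈ H → d * d = 1 → ∀ R : Subgroup G, R ≤ H → IsPGroup 2 R →
      coverSub H d ≤ Subgroup.normalizer (R : Set G) → R ≤ Cfsg.pCoreOf 2 H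

/-- The maximal subgroups of a minimal counterexample have nontrivial 2-core. -/
def CoreNeStmt : Prop :=
  ∀ {G : Type u} [Group G] [Finite G] (S : Sys G), S.CoreNe

/-- The finite tree argument: no system without failing pairs. -/
def TreeStmt : Prop :=
  ∀ {G : Type u} [Group G] [Finite G] (S : Sys G), S.CoreNe → S.NoFail → False

/-- The main theorem. -/
def MainStmt : Prop :=
  ∀ (G : Type u) [Group G] [Finite G], SubT G

/-- The bound for an involutory automorphism `α` with `[G, α] = G`. -/
def BoundStmt : Prop :=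
  MainStmt.{0} → ∃ f : ℕ → ℕ, ∀ (G : Type) [Group G] [Finite G] [Nontrivial G] (α : MulAut G),
    orderOf α = 2 →
    Subgroup.closure (Set.range (fun c : G => c * (α c)⁻¹)) = ⊤ →
      Nat.card G ≤ f (Nat.card {g : G // Odd (orderOf g) ∧ α g = g⁻¹})

/-- Connectedness of the odd-product graph. -/
def GraphStmt : Prop :=
  MainStmt.{u} → ∀ {G : Type u} [Group G] [Finite G] [IsSimpleGroup G],
    ¬ IsMulCommutative G → ∀ t : G, orderOf t = 2 →
    (SimpleGraph.fromRel fun x y : {x : G // IsConj t x} =>
      Odd (orderOf (x.1 * y.1))).Connected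

end H43.InvSub
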